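import Groth.Agent.ChevThmLib.Twist
import Groth.Agent.SubSpecLib.Hull
import Groth.Agent.AntiAffLib.KerSub
import Groth.Agent.GrpFieldLib.KerShear
import Groth.Agent.MonoQuotLib.Orbit
import Groth.Agent.AlgSpLib.PureMono
import Groth.Agent.GrpSchLib.Cartier
import Groth.Agent.S3030
import Groth.Agent.S14588
import Groth.Agent.S0114

/-! A group over a field modulo a big Frobenius kernel is smooth. -/

set_option autoImplicit false
set_option linter.style.haveILetI false
set_option linter.unusedSectionVars false
set_option backward.isDefEq.respectTransparency false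
set_option maxHeartbeats 1000000

universe u

open CategoryTheory CategoryTheory.Limits MonoidalCategory CartesianMonoidalCategory AlgebraicGeometry TopologicalSpace
open scoped MonObj
open ChevThmLib

noncomputable section

attribute [-instance] CategoryTheory.Hom.commGroup

namespace FrobQuotLib

variable {k : Type u} [Field k]

/-- A faithfully flat homomorphism and its kernel form an exact sequence. -/
theorem isExactSeq_of_kernel {S : Scheme.{u}} {H G Q : Over S} [GrpObj H] [GrpObj G] [GrpObj Q] (i : H ⟶ G) (v : G ⟶ Q)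
    [IsMonHom i] [IsMonHom v] [Flat v.left] [Surjective v.left] [LocallyOfFinitePresentation v.left]
    (hK : AlgGrp.IsKernel i v) : NonAbH1.IsExactSeq Scheme.fppfPrecoverage i v := by
  refine ⟨inferInstance, inferInstance, by rw [hK.w, Hom.one_def], ?_, ?_⟩
  · have e : (G ◁ i) ≫ μ[G] = fst G H * (snd G H ≫ i) := by
      rw [Hom.mul_def]
      congr 1
    rw [e]
    exact Groth.Agent.GrpKerShear.isPullback_shear v i hK
  · refine ⟨Presieve.singleton v.left, Scheme.Hom.singleton_mem_fppfPrecoverage _, fun S' f hf => ?_⟩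
    obtain ⟨⟩ := hf
    exact ⟨𝟙 _, Category.id_comp _⟩

theorem appTop_comp_eq {X Y Z : Scheme.{u}} (f : X ⟶ Y) (g : Y ⟶ Z) (h : X ⟶ Z) (he : f ≫ g = h) (a : Γ(Z, ⊤)) :
    f.appTop (g.appTop a) = h.appTop a := by
  subst he
  rfl

section

variable (p : ℕ) [Fact p.Prime] [CharP k p] [ExpChar k p] (s : ℕ)

/-- After an extension to a perfect field, a faithfully flat image of `U` inside the twist is reduced. -/
theorem isReduced_bc_image {L : Type u} [Field L] [IsAlgClosed L]
    (q : Spec (CommRingCat.of L) ⟶ Spec (CommRingCat.of k)) (U V : Over (Spec (CommRingCat.of k))) [IsAffine U.left]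
    [IsAffine V.left] (v : U ⟶ V) [Flat v.left] [Surjective v.left] (c : V ⟶ (twF (k := k) p s).obj U)
    [IsClosedImmersion c.left] (hvc : v ≫ c = relF p s U)
    (hn : ∀ x : Γ((Red.bc q U).left, ⊤), IsNilpotent x → x ^ p ^ s = 0) :
    AlgebraicGeometry.IsReduced (Red.bc q V).left := by
  let Uq := Red.bc q U
  let m : Uq ⟶ Red.bc q V := (Over.pullback q).map v
  haveI : Flat m.left := MorphismProperty.baseChange_map (P := @Flat) q v ‹_›
  haveI : Surjective m.left := MorphismProperty.baseChange_map (P := @Surjective) q v ‹_›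
  have hm : m.left ≫ pullback.fst V.hom q = pullback.fst U.hom q ≫ v.left := ActBC.pullback_map_left_fst q v
  haveI : FrobSch.IsCharP U.left p := FrobSch.IsCharP.of_hom U.hom p
  haveI : FrobSch.IsCharP (Spec (CommRingCat.of L)) p := FrobSch.IsCharP.of_hom q p
  haveI : FrobSch.IsCharP Uq.left p := FrobSch.IsCharP.of_hom (pullback.snd U.hom q ≫ q) p
  haveI : IsAffine Uq.left := inferInstanceAs (IsAffine (pullback U.hom q))
  haveI : IsAffine (Red.bc q V).left := inferInstanceAs (IsAffine (pullback V.hom q))
  let P : Subring Γ(Uq.left, ⊤) := ((FrobSch.frobIter Uq.left p s).appTop.hom).range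
  have hP : ∀ x, x ^ p ^ s ∈ P := fun x => ⟨x, CurveFFLib.frobIter_appTop s x⟩
  have hL : ∀ d : Γ(Spec (CommRingCat.of L), ⊤), (pullback.snd U.hom q).appTop d ∈ P := by
    intro d
    obtain ⟨l, hl⟩ := IsAlgClosed.exists_pow_nat_eq ((Scheme.ΓSpecIso (CommRingCat.of L)).hom d)
      (pow_pos (Fact.out : p.Prime).pos s)
    have hd : d = (Scheme.ΓSpecIso (CommRingCat.of L)).inv l ^ p ^ s := by
      rw [← map_pow, hl]
      simp
    rw [hd, map_pow]
    exact hP _
  let ev : Γ(V.left, ⊤) →+* Γ(Uq.left, ⊤) := ((pullback.fst U.hom q).appTop.hom).comp v.left.appTop.hom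
  haveI : IsAffine ((twF (k := k) p s).obj U).left := inferInstanceAs (IsAffine (pullback U.hom _))
  have hcV : Function.Surjective c.left.appTop :=
    (IsClosedImmersion.isAffine_surjective_of_isAffine (f := c.left)).2
  have hV : ∀ a : Γ(V.left, ⊤), ev a ∈ P := by
    intro a
    obtain ⟨b, rfl⟩ := hcV a
    have e : ev (c.left.appTop b) = (pullback.fst U.hom q).appTop ((relF p s U).left.appTop b) := by
      rw [← hvc, Over.comp_left, Scheme.Hom.comp_appTop]
      rfl
    rw [e]
    clear e
    let Y : Over (Spec (CommRingCat.of k)) := Over.mk (frobS (k := k) p s)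
    haveI : QuasiCompact Y.hom := inferInstanceAs (QuasiCompact (frobS (k := k) p s))
    haveI : QuasiSeparated Y.hom := inferInstanceAs (QuasiSeparated (frobS (k := k) p s))
    have htop := CommRingCat.closure_range_union_range_eq_top_of_isPushout (SubSpecLib.Hull.isPushout_appTop U Y)
    have hb : b ∈ Subring.closure (Set.range (fst U Y).left.appTop ∪ Set.range (snd U Y).left.appTop) :=
      htop ▸ Subring.mem_top _
    induction hb using Subring.closure_induction with
    | mem x hx =>
      rcases hx with ⟨a', rfl⟩ | ⟨d, rfl⟩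
      · have e1 : (relF p s U).left.appTop ((fst U Y).left.appTop a') = a' ^ p ^ s := by
          exact (appTop_comp_eq _ _ _ (relF_fst p s U) a').trans (CurveFFLib.frobIter_appTop s a')
        rw [e1, map_pow]
        exact hP _
      · have e2 : (relF p s U).left.appTop ((snd U Y).left.appTop d) = U.hom.appTop d := by
          exact appTop_comp_eq _ _ _ (Over.w (relF p s U)) d
        rw [e2, ← CommRingCat.comp_apply, ← Scheme.Hom.comp_appTop, pullback.condition, Scheme.Hom.comp_appTop,
          CommRingCat.comp_apply]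
        exact hL _
    | zero => simp only [map_zero]; exact P.zero_mem
    | one => simp only [map_one]; exact P.one_mem
    | add x y _ _ hx hy => simp only [map_add]; exact P.add_mem hx hy
    | neg x _ hx => simp only [map_neg]; exact P.neg_mem hx
    | mul x y _ _ hx hy => simp only [map_mul]; exact P.mul_mem hx hy
  have hall : ∀ y : Γ((Red.bc q V).left, ⊤), m.left.appTop y ∈ P := by
    intro y
    let Y : Over (Spec (CommRingCat.of k)) := Over.mk q
    haveI : QuasiCompact Y.hom := inferInstanceAs (QuasiCompact q)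
    haveI : QuasiSeparated Y.hom := inferInstanceAs (QuasiSeparated q)
    have htop := CommRingCat.closure_range_union_range_eq_top_of_isPushout (SubSpecLib.Hull.isPushout_appTop V Y)
    have hy : y ∈ Subring.closure (Set.range (fst V Y).left.appTop ∪ Set.range (snd V Y).left.appTop) :=
      htop ▸ Subring.mem_top _
    induction hy using Subring.closure_induction with
    | mem x hx =>
      rcases hx with ⟨a, rfl⟩ | ⟨d, rfl⟩
      · have e1 : m.left.appTop ((fst V Y).left.appTop a) = ev a := by
          exact (appTop_comp_eq _ _ _ hm a).trans (appTop_comp_eq _ _ _ rfl a).symm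
        rw [e1]
        exact hV a
      · have e2 : m.left.appTop ((snd V Y).left.appTop d) = (pullback.snd U.hom q).appTop d := by
          exact appTop_comp_eq _ _ _ (Over.w m) d
        rw [e2]
        exact hL d
    | zero => simp only [map_zero]; exact P.zero_mem
    | one => simp only [map_one]; exact P.one_mem
    | add x y _ _ hx hy => simp only [map_add]; exact P.add_mem hx hy
    | neg x _ hx => simp only [map_neg]; exact P.neg_mem hx
    | mul x y _ _ hx hy => simp only [map_mul]; exact P.mul_mem hx hy
  haveI : _root_.IsReduced Γ((Red.bc q V).left, ⊤) := ⟨fun y ⟨n, hy⟩ => by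
    refine AlgSpLib.appTop_injective_of_flat_surjective m.left ?_
    rw [map_zero]
    obtain ⟨x, hx⟩ := hall y
    rw [CurveFFLib.frobIter_appTop] at hx
    rw [← hx]
    exact hn x ⟨p ^ s * n, by rw [pow_mul, hx, ← map_pow, hy, map_zero]⟩⟩
  haveI : AlgebraicGeometry.IsReduced (Spec Γ((Red.bc q V).left, ⊤)) := inferInstance
  exact isReduced_of_isOpenImmersion (Red.bc q V).left.isoSpec.hom

variable (G : Over (Spec (CommRingCat.of k))) [GrpObj G] [LocallyOfFiniteType G.hom]

/-- The quotient by the Frobenius kernel sits inside the twist. -/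
theorem exists_quotient_relF :
    letI := twGrp (k := k) p s G
    ∃ (H Q : Over (Spec (CommRingCat.of k))) (_ : GrpObj H) (_ : GrpObj Q) (i : H ⟶ G) (v : G ⟶ Q)
      (emb : Q ⟶ (twF (k := k) p s).obj G), IsMonHom i ∧ IsMonHom v ∧ IsFinite H.hom ∧ ConnectedSpace ↥H.left ∧
        IsClosedImmersion i.left ∧ AlgGrp.IsKernel i v ∧ Flat v.left ∧ Surjective v.left ∧
        LocallyOfFinitePresentation v.left ∧ LocallyOfFiniteType Q.hom ∧ IsClosedImmersion emb.left ∧
        v ≫ emb = relF p s G := by
  letI := twGrp (k := k) p s G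
  haveI := isMonHom_relF (k := k) p s G
  let T := (twF (k := k) p s).obj G
  let f : G ⟶ T := relF p s G
  haveI : LocallyOfFiniteType T.hom := MorphismProperty.pullback_snd (P := @LocallyOfFiniteType) _ _ ‹_›
  haveI : IsSeparated T.hom := Groth.Agent.GrpField.isSeparated_grp (G := T)
  obtain ⟨hint, hui, hsj⟩ := relF_props (k := k) p s G
  haveI : IsIntegralHom f.left := hint
  haveI : UniversallyInjective f.left := hui
  haveI : Surjective f.left := hsj
  haveI : LocallyOfFiniteType f.left := by
    haveI : LocallyOfFiniteType (f.left ≫ T.hom) := by rw [Over.w f]; infer_instance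
    exact locallyOfFiniteType_of_comp f.left T.hom
  haveI : IsFinite f.left := (IsFinite.iff_isIntegralHom_and_locallyOfFiniteType _).mpr ⟨inferInstance, inferInstance⟩
  obtain ⟨H, hH, i, hi, hic, hK, hnor⟩ := AntiAffLib.exists_kernel f
  have sq : IsPullback i.left (toUnit H).left f.left (η[T] : 𝟙_ _ ⟶ T).left := hK.map (Over.forget _)
  haveI : IsFinite H.hom := by
    have := MorphismProperty.of_isPullback (P := @IsFinite) sq ‹_›
    rwa [← Over.w (toUnit H), show (𝟙_ (Over (Spec (CommRingCat.of k)))).hom = 𝟙 _ from rfl, Category.comp_id]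
  haveI : UniversallyInjective H.hom := by
    have := MorphismProperty.of_isPullback (P := @UniversallyInjective) sq ‹_›
    rwa [← Over.w (toUnit H), show (𝟙_ (Over (Spec (CommRingCat.of k)))).hom = 𝟙 _ from rfl, Category.comp_id]
  have hcon : ConnectedSpace ↥H.left := by
    haveI : Subsingleton ↥(Spec (CommRingCat.of k)) := inferInstanceAs (Subsingleton (PrimeSpectrum k))
    haveI : Subsingleton ↥H.left := H.hom.injective.subsingleton
    haveI : Nonempty ↥H.left := ⟨(η[H] : 𝟙_ _ ⟶ H).left (IsLocalRing.closedPoint k : PrimeSpectrum k)⟩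
    exact { isPreconnected_univ := Set.subsingleton_univ.isPreconnected, toNonempty := ‹_› }
  haveI := hi
  haveI : Mono i := Over.mono_of_mono_left i
  haveI : Flat H.hom := Groth.Agent.GrpField.flat_field _
  haveI : Flat G.hom := Groth.Agent.GrpField.flat_field _
  haveI : LocallyOfFiniteType H.hom := inferInstance
  haveI : QuasiCompact i.left := inferInstance
  obtain ⟨Q, hQ, v, hv, hvf, hvs, hvl, hKv, hQs, hQf, -⟩ := Groth.Agent.S3030.result k H G i hnor
  haveI := hv; haveI := hvf; haveI := hvs; haveI := hvl; haveI := hQs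
  have hif : i ≫ f = 1 := by rw [hK.w, Hom.one_def]
  obtain ⟨emb, hι⟩ := Groth.Agent.MonoQuot.exists_desc_over v f (fun Z a b hab => by
    obtain ⟨l, hl1, hl2⟩ : ∃ l : Z ⟶ G ⊗ H, l ≫ fst G H = a ∧ l ≫ (fst G H * (snd G H ≫ i)) = b :=
      ⟨(Groth.Agent.GrpKerShear.isPullback_shear v i hKv).lift a b hab,
        (Groth.Agent.GrpKerShear.isPullback_shear v i hKv).lift_fst a b hab,
        (Groth.Agent.GrpKerShear.isPullback_shear v i hKv).lift_snd a b hab⟩
    rw [← hl2, ← hl1, Category.assoc, Category.assoc, MonObj.mul_comp, Category.assoc, hif, MonObj.comp_one,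
      _root_.mul_one])
  haveI : LocallyOfFiniteType Q.hom := by
    haveI : LocallyOfFinitePresentation (v.left ≫ Q.hom) := by
      rw [Over.w v]; exact LocallyOfFinitePresentation.iff_locallyOfFiniteType.2 inferInstance
    haveI := Groth.Agent.S0114.result v.left Q.hom
    infer_instance
  haveI hιc : UniversallyClosed emb.left := by
    haveI : UniversallyClosed (v.left ≫ emb.left) := by rw [← Over.comp_left, hι]; infer_instance
    exact UniversallyClosed.of_comp_surjective v.left emb.left
  haveI : LocallyOfFiniteType emb.left := by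
    haveI : LocallyOfFiniteType (emb.left ≫ T.hom) := by rw [Over.w emb]; infer_instance
    exact locallyOfFiniteType_of_comp emb.left T.hom
  haveI : IsSeparated emb.left := by
    haveI : IsSeparated (emb.left ≫ T.hom) := by rw [Over.w emb]; infer_instance
    exact IsSeparated.of_comp emb.left T.hom
  haveI : QuasiCompact emb.left := inferInstance
  haveI : IsProper emb.left := {}
  haveI : Epi v := Groth.Agent.MonoQuot.epi_over v
  haveI : Mono emb.left := by
    haveI : Mono emb := by
      refine ⟨fun {Z} a b hab => ?_⟩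
      haveI : Surjective (pullback.fst a.left v.left) := MorphismProperty.pullback_fst _ _ hvs
      haveI : Flat (pullback.fst a.left v.left) := MorphismProperty.pullback_fst _ _ hvf
      haveI : LocallyOfFinitePresentation (pullback.fst a.left v.left) := MorphismProperty.pullback_fst _ _ hvl
      let c : pullback a v ⟶ Z := pullback.fst a v
      haveI : Surjective (pullback.fst (c ≫ b).left v.left) := MorphismProperty.pullback_fst _ _ hvs
      let d : pullback (c ≫ b) v ⟶ pullback a v := pullback.fst (c ≫ b) v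
      have hc : Flat c.left ∧ Surjective c.left ∧ LocallyOfFinitePresentation c.left := by
        have h := (IsPullback.of_hasPullback a v).map (Over.forget _)
        exact ⟨MorphismProperty.of_isPullback h.flip hvf, MorphismProperty.of_isPullback h.flip hvs,
          MorphismProperty.of_isPullback h.flip hvl⟩
      have hd : Flat d.left ∧ Surjective d.left ∧ LocallyOfFinitePresentation d.left := by
        have h := (IsPullback.of_hasPullback (c ≫ b) v).map (Over.forget _)
        exact ⟨MorphismProperty.of_isPullback h.flip hvf, MorphismProperty.of_isPullback h.flip hvs,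
          MorphismProperty.of_isPullback h.flip hvl⟩
      haveI := hc.1; haveI := hc.2.1; haveI := hc.2.2; haveI := hd.1; haveI := hd.2.1; haveI := hd.2.2
      haveI : Epi c := Groth.Agent.MonoQuot.epi_over c
      haveI : Epi d := Groth.Agent.MonoQuot.epi_over d
      let x := d ≫ pullback.snd a v
      let y := pullback.snd (c ≫ b) v
      have hx : x ≫ v = d ≫ c ≫ a := by simp only [x, c, Category.assoc, pullback.condition]
      have hy : y ≫ v = d ≫ c ≫ b := by simp only [y, d, pullback.condition]
      have hxy : x ≫ f = y ≫ f := by rw [← hι, reassoc_of% hx, reassoc_of% hy, hab]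
      obtain ⟨n, hn⟩ : ∃ n, n ≫ i = x⁻¹ * y := ⟨hK.lift (x⁻¹ * y) (toUnit _) (by
        rw [MonObj.mul_comp, GrpObj.inv_comp, hxy, inv_mul_cancel, Hom.one_def]), hK.lift_fst _ _ _⟩
      rw [← cancel_epi c, ← cancel_epi d, ← hx, ← hy, show y = x * (n ≫ i) by rw [hn, mul_inv_cancel_left],
        MonObj.mul_comp, Category.assoc n i v, show i ≫ v = 1 by rw [hKv.w, Hom.one_def], MonObj.comp_one,
        _root_.mul_one]
    exact inferInstanceAs (Mono ((Over.forget _).map emb))
  exact ⟨H, Q, hH, hQ, i, v, emb, hi, hv, inferInstance, hcon, hic, hKv, hvf, hvs, hvl, inferInstance,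
    (IsClosedImmersion.iff_isProper_and_mono _).mpr ⟨inferInstance, inferInstance⟩, hι⟩

/-- For large `s` the quotient by the Frobenius kernel is smooth. -/
theorem exists_smooth_quotient_charP {k : Type u} [Field k] (p : ℕ) [Fact p.Prime] [CharP k p] [ExpChar k p]
    (G : Over (Spec (CommRingCat.of k))) [GrpObj G] [LocallyOfFiniteType G.hom] :
    ∃ (H Q : Over (Spec (CommRingCat.of k))) (_ : GrpObj H) (_ : GrpObj Q) (i : H ⟶ G) (v : G ⟶ Q),
      IsFinite H.hom ∧ ConnectedSpace ↥H.left ∧ Smooth Q.hom ∧ IsClosedImmersion i.left ∧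
        NonAbH1.IsExactSeq Scheme.fppfPrecoverage i v := by
  let e₀ : G.left := (η[G] : 𝟙_ _ ⟶ G).left (IsLocalRing.closedPoint k : PrimeSpectrum k)
  obtain ⟨U, hU, heU, -⟩ := exists_isAffineOpen_mem_and_subset (X := G.left) (x := e₀) (U := ⊤) trivial
  let Uo : Over (Spec (CommRingCat.of k)) := Over.mk (U.ι ≫ G.hom)
  let u : Uo ⟶ G := Over.homMk U.ι rfl
  haveI : IsOpenImmersion u.left := inferInstanceAs (IsOpenImmersion U.ι)
  haveI : IsAffine Uo.left := hU
  haveI : LocallyOfFiniteType Uo.hom := inferInstanceAs (LocallyOfFiniteType (U.ι ≫ G.hom))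
  let q : Spec (CommRingCat.of (AlgebraicClosure k)) ⟶ Spec (CommRingCat.of k) :=
    Spec.map (CommRingCat.ofHom (algebraMap k (AlgebraicClosure k)))
  haveI : LocallyOfFiniteType (Red.bc q Uo).hom := MorphismProperty.pullback_snd (P := @LocallyOfFiniteType) _ _ ‹_›
  haveI : IsAffine (Red.bc q Uo).left := inferInstanceAs (IsAffine (pullback Uo.hom q))
  haveI : IsLocallyNoetherian (Red.bc q Uo).left := LocallyOfFiniteType.isLocallyNoetherian (Red.bc q Uo).hom
  haveI : IsNoetherianRing Γ((Red.bc q Uo).left, ⊤) :=
    IsLocallyNoetherian.component_noetherian ⟨⊤, isAffineOpen_top _⟩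
  obtain ⟨N, hN⟩ := IsNoetherianRing.isNilpotent_nilradical Γ((Red.bc q Uo).left, ⊤)
  have hpN : N ≤ p ^ N := (Nat.lt_pow_self (Fact.out : p.Prime).one_lt).le
  have hn : ∀ x : Γ((Red.bc q Uo).left, ⊤), IsNilpotent x → x ^ p ^ N = 0 := fun x hx => by
    refine pow_eq_zero_of_le hpN ?_
    have h := Ideal.pow_mem_pow (mem_nilradical.2 hx) N
    rw [hN] at h
    exact h
  obtain ⟨H, Q, hH, hQ, i, v, emb, hi, hv, hfin, hcon, hic, hK, hvf, hvs, hvl, hQl, hιc, hι⟩ :=
    exists_quotient_relF p N G
  haveI := hi; haveI := hv; haveI := hvf; haveI := hvs; haveI := hvl; haveI := hQl; haveI := hιc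
  refine ⟨H, Q, hH, hQ, i, v, hfin, hcon, ?_, hic, isExactSeq_of_kernel i v hK⟩
  let w := (twF (k := k) p N).map u
  haveI : IsOpenImmersion w.left := MorphismProperty.baseChange_map (P := @IsOpenImmersion) _ u ‹_›
  let V : Over (Spec (CommRingCat.of k)) := Over.mk (pullback.fst emb.left w.left ≫ Q.hom)
  let jV : V ⟶ Q := Over.homMk (pullback.fst emb.left w.left) rfl
  let cV : V ⟶ (twF (k := k) p N).obj Uo := Over.homMk (pullback.snd emb.left w.left) (by
    show _ = pullback.fst emb.left w.left ≫ Q.hom
    rw [← Over.w emb, ← Over.w w, reassoc_of% (pullback.condition (f := emb.left) (g := w.left))])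
  haveI : IsOpenImmersion jV.left := inferInstanceAs (IsOpenImmersion (pullback.fst emb.left w.left))
  haveI : IsClosedImmersion cV.left := MorphismProperty.pullback_snd (P := @IsClosedImmersion) _ _ hιc
  haveI : IsAffine ((twF (k := k) p N).obj Uo).left := inferInstanceAs (IsAffine (pullback Uo.hom _))
  haveI : IsAffine V.left := isAffine_of_isAffineHom cV.left
  have hsq : (u ≫ v).left ≫ emb.left = (relF p N Uo).left ≫ w.left := by
    rw [← Over.comp_left, ← Over.comp_left, Category.assoc, hι, relF_natural]
  let vU : Uo ⟶ V := Over.homMk (pullback.lift (u ≫ v).left (relF p N Uo).left hsq) (by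
    show _ ≫ pullback.fst emb.left w.left ≫ Q.hom = _
    rw [pullback.lift_fst_assoc]
    exact Over.w (u ≫ v))
  have hrange : v.left ⁻¹ᵁ jV.left.opensRange = u.left.opensRange := by
    refine Opens.ext (Set.ext fun x => ?_)
    show v.left x ∈ Set.range (pullback.fst emb.left w.left) ↔ x ∈ Set.range U.ι
    rw [Scheme.Pullback.range_fst, Set.mem_preimage, U.range_ι, ← Scheme.Hom.comp_apply, ← Over.comp_left, hι]
    constructor
    · rintro ⟨y, hy⟩
      have h2 : (pullback.fst G.hom (frobS (k := k) p N)) (w.left y) = U.ι (pullback.fst Uo.hom (frobS p N) y) := by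
        exact ((Scheme.Hom.comp_apply _ _ y).symm.trans
          congr($(ActBC.pullback_map_left_fst (frobS (k := k) p N) u) y)).trans (Scheme.Hom.comp_apply _ _ y)
      rw [hy, fst_relF_apply] at h2
      rw [h2]
      exact (pullback.fst Uo.hom (frobS p N) y).2
    · intro hx
      refine ⟨(relF p N Uo).left ⟨x, hx⟩, ?_⟩
      rw [← Scheme.Hom.comp_apply, ← Over.comp_left, ← relF_natural]
      rfl
  have hpb : IsPullback vU.left u.left jV.left v.left := IsOpenImmersion.isPullback vU.left u.left jV.left v.left
    (by rw [show vU.left ≫ jV.left = (u ≫ v).left from pullback.lift_fst _ _ _]; rfl) hrange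
  haveI : Flat vU.left := MorphismProperty.of_isPullback hpb.flip hvf
  haveI : Surjective vU.left := MorphismProperty.of_isPullback hpb.flip hvs
  haveI hred := isReduced_bc_image p N q Uo V vU cV (Over.OverMorphism.ext (pullback.lift_snd _ _ _)) hn
  let t : ↥((𝟙_ (Over (Spec (CommRingCat.of (AlgebraicClosure k))))).left) :=
    (IsLocalRing.closedPoint (AlgebraicClosure k) : PrimeSpectrum (AlgebraicClosure k))
  refine Groth.Agent.S14588.result k Q t ?_
  let jq := (Over.pullback q).map jV
  haveI : IsOpenImmersion jq.left := MorphismProperty.baseChange_map (P := @IsOpenImmersion) _ jV ‹_›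
  let eQ := (η[Red.bc q Q] : 𝟙_ _ ⟶ Red.bc q Q).left t
  have he : (pullback.fst Q.hom q) eQ = v.left e₀ := by
    have h1 : v.left e₀ = (η[Q] : 𝟙_ _ ⟶ Q).left (IsLocalRing.closedPoint k : PrimeSpectrum k) :=
      congr($(IsMonHom.one_hom v).left _)
    rw [h1]
    show (pullback.fst Q.hom q) ((Functor.LaxMonoidal.ε (Over.pullback q) ≫ (Over.pullback q).map η[Q]).left t) = _
    refine (congrArg _ (Scheme.Hom.comp_apply _ _ t)).trans ((Scheme.Hom.comp_apply _ _ _).symm.trans
      ((congr($(ActBC.pullback_map_left_fst q (η[Q] : 𝟙_ _ ⟶ Q)) _)).trans ((Scheme.Hom.comp_apply _ _ _).trans ?_)))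
    exact congrArg _ (Subsingleton.elim (α := PrimeSpectrum k) _ _)
  obtain ⟨z, hz⟩ : eQ ∈ Set.range jq.left := by
    have hpb2 : IsPullback (pullback.fst V.hom q) jq.left jV.left (pullback.fst Q.hom q) :=
      IsPullback.of_bot (by
        show IsPullback (pullback.fst V.hom q) (jq.left ≫ (Red.bc q Q).hom) (jV.left ≫ Q.hom) q
        rw [Over.w jq, Over.w jV]
        exact IsPullback.of_hasPullback _ _) (ActBC.pullback_map_left_fst q jV).symm (IsPullback.of_hasPullback _ _)
    obtain ⟨y, hy⟩ : v.left e₀ ∈ Set.range jV.left := ⟨vU.left ⟨e₀, heU⟩, congr($(hpb.w) (⟨e₀, heU⟩ : U))⟩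
    obtain ⟨z, -, hz⟩ := Scheme.exists_preimage_of_isPullback hpb2 y eQ (hy.trans he.symm)
    exact ⟨z, hz⟩
  haveI := hred
  haveI : IsIso (jq.left.stalkMap z) := inferInstance
  show _root_.IsReduced ↑((Red.bc q Q).left.presheaf.stalk eQ)
  rw [← hz]
  exact isReduced_of_injective _ (asIso (jq.left.stalkMap z)).commRingCatIsoToRingEquiv.injective

end

/-- Every group over a field is an extension of a smooth group by a finite connected one. -/
theorem exists_smooth_quotient (G : Over (Spec (CommRingCat.of k))) [GrpObj G] [LocallyOfFiniteType G.hom] :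
    ∃ (H Q : Over (Spec (CommRingCat.of k))) (_ : GrpObj H) (_ : GrpObj Q) (i : H ⟶ G) (v : G ⟶ Q),
      IsFinite H.hom ∧ ConnectedSpace ↥H.left ∧ Smooth Q.hom ∧ IsClosedImmersion i.left ∧
        NonAbH1.IsExactSeq Scheme.fppfPrecoverage i v := by
  rcases CharP.exists' k with h0 | ⟨p, hp, hch⟩
  · haveI := h0
    haveI : Smooth G.hom := Groth.Agent.GrpSchLib.smooth_of_charZero (G := G)
    obtain ⟨H, hH, i, hi, hic, hK, -⟩ := AntiAffLib.exists_kernel (𝟙 G)
    haveI := hi
    have sq : IsPullback i.left (toUnit H).left (𝟙 G : G ⟶ G).left (η[G] : 𝟙_ _ ⟶ G).left := hK.map (Over.forget _)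
    haveI : IsIso H.hom := by
      haveI : IsIso (𝟙 G : G ⟶ G).left := inferInstanceAs (IsIso (𝟙 G.left))
      rw [← Over.w (toUnit H), show (𝟙_ (Over (Spec (CommRingCat.of k)))).hom = 𝟙 _ from rfl, Category.comp_id]
      exact sq.isIso_snd_of_isIso
    haveI : IsIso (𝟙 G : G ⟶ G).left := inferInstanceAs (IsIso (𝟙 G.left))
    haveI : ConnectedSpace ↥H.left := by
      haveI : ConnectedSpace ↥(Spec (CommRingCat.of k)) := inferInstanceAs (ConnectedSpace (PrimeSpectrum k))
      exact (inv H.hom).homeomorph.surjective.connectedSpace (inv H.hom).continuous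
    exact ⟨H, G, hH, inferInstance, i, 𝟙 G, inferInstance, inferInstance, inferInstance, hic,
      isExactSeq_of_kernel i (𝟙 G) hK⟩
  · haveI := hp; haveI := hch
    haveI : ExpChar k p := ExpChar.prime hp.out
    exact exists_smooth_quotient_charP p G

end FrobQuotLib
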